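import Groth.Agent.Lib.GModExt21.Tsze

/-!
# Invariants of a finite module are finitely generated over the invariants of the algebra
-/

set_option autoImplicit false
set_option linter.style.haveILetI false
set_option backward.isDefEq.respectTransparency.types false
universe u

open CategoryTheory MonObj AlgebraicGeometry
open scoped TensorProduct

noncomputable section

namespace Groth.Agent.GModExt21

variable {k : Type u} [Field k] {G H : Over (Spec (CommRingCat.of k))} [GrpObj G] [GrpObj H]
  {A : Type u} [CommRing A] [Algebra k A] {M : Type u} [AddCommGroup M] [Module A M] [Module k M]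
  [IsScalarTower k A M]

/-- If all invariant algebras of finitely generated algebras are finitely generated, invariant modules are finite. -/
theorem exists_gens {i : H ⟶ G}
    (hfg : ∀ (R : Type u) [CommRing R] [Algebra k R] (ρ : VecGrp.GMod G R), ρ.IsMult → Algebra.FiniteType k R →
      VecGrp.AdjoinFG k (ρ.fixedUnder i : Set R))
    [Algebra.FiniteType k A] [Module.Finite A M] (ρA : VecGrp.GMod G A) (hρ : ρA.IsMult)
    (ρM : VecGrp.GMod G M) (hc : VecGrp.GMod.IsCompat ρA ρM) :
    ∃ s : Finset M, (↑s : Set M) ⊆ ρM.fixedUnder i ∧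
      ρM.fixedUnder i ≤ (Submodule.span ↥(ρA.fixedSubalgebra hρ i) (↑s : Set M)).restrictScalars k := by
  classical
  letI : Module Aᵐᵒᵖ M := Module.compHom M ((RingHom.id A).fromOpposite fun x y => mul_comm x y)
  haveI : IsCentralScalar A M := ⟨fun _ _ => rfl⟩
  haveI : IsScalarTower k Aᵐᵒᵖ M := ⟨fun c a m => by
    show (MulOpposite.unop (c • a)) • m = c • (MulOpposite.unop a • m)
    rw [MulOpposite.unop_smul, smul_assoc]⟩
  let R := TrivSqZeroExt A M
  haveI : Module.Finite A R := by
    exact Module.Finite.of_surjective ((TrivSqZeroExt.inlAlgHom A A M).toLinearMap.coprod (TrivSqZeroExt.inrHom A M))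
      fun r => ⟨(r.fst, r.snd), TrivSqZeroExt.inl_fst_add_inr_snd_eq r⟩
  haveI : IsScalarTower k A R := IsScalarTower.of_algebraMap_eq fun c => rfl
  have hR : Algebra.FiniteType k R :=
    Algebra.FiniteType.trans (inferInstance : Algebra.FiniteType k A) (inferInstance : Algebra.FiniteType A R)
  obtain ⟨t, ht, hgen⟩ := hfg R (extMod ρA ρM) (extMod_isMult ρA ρM hρ hc) hR
  refine ⟨t.image TrivSqZeroExt.snd, fun m hm => ?_, fun m hm => ?_⟩
  · obtain ⟨x, hx, rfl⟩ := Finset.mem_image.1 (Finset.mem_coe.1 hm)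
    exact ((mem_fixedUnder ρA ρM i x).1 (ht hx)).2
  set S := Submodule.span ↥(ρA.fixedSubalgebra hρ i) ((t.image TrivSqZeroExt.snd : Finset M) : Set M)
  have key : ∀ x ∈ Algebra.adjoin k (t : Set R), x.fst ∈ ρA.fixedSubalgebra hρ i ∧ x.snd ∈ S := by
    intro x hx
    induction hx using Algebra.adjoin_induction with
    | mem x hx =>
      exact ⟨((mem_fixedUnder ρA ρM i x).1 (ht hx)).1,
        Submodule.subset_span (Finset.mem_coe.2 (Finset.mem_image.2 ⟨x, hx, rfl⟩))⟩
    | algebraMap c => exact ⟨(ρA.fixedSubalgebra hρ i).algebraMap_mem c, S.zero_mem⟩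
    | add x y _ _ hx hy => exact ⟨Subalgebra.add_mem _ hx.1 hy.1, S.add_mem hx.2 hy.2⟩
    | mul x y _ _ hx hy =>
      refine ⟨Subalgebra.mul_mem _ hx.1 hy.1, ?_⟩
      rw [TrivSqZeroExt.snd_mul, op_smul_eq_smul]
      exact S.add_mem (S.smul_mem (⟨x.fst, hx.1⟩ : ρA.fixedSubalgebra hρ i) hy.2)
        (S.smul_mem (⟨y.fst, hy.1⟩ : ρA.fixedSubalgebra hρ i) hx.2)
  have hm' : (TrivSqZeroExt.inr m : R) ∈ (extMod ρA ρM).fixedUnder i := by
    refine (mem_fixedUnder ρA ρM i _).2 ⟨?_, ?_⟩
    · exact Submodule.zero_mem _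
    · exact hm
  exact (key _ (hgen hm')).2

end Groth.Agent.GModExt21
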