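import Groth.Prelude.Def_W4bk4grossh1223Act
import Mathlib.Algebra.TrivSqZeroExt.Basic
import Mathlib.RingTheory.FiniteType
import Mathlib.RingTheory.Finiteness.Prod

/-!
# The action on the trivial square zero extension of an algebra by a compatible module
-/

set_option autoImplicit false
set_option linter.style.haveILetI false
set_option backward.isDefEq.respectTransparency.types false
universe u

open CategoryTheory MonObj AlgebraicGeometry
open scoped TensorProduct

noncomputable section

namespace Groth.Agent.GModExt21

variable {k : Type u} [Field k] {G : Over (Spec (CommRingCat.of k))} [GrpObj G]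
  {A : Type u} [CommRing A] [Algebra k A] {M : Type u} [AddCommGroup M] [Module A M] [Module k M]
  [IsScalarTower k A M] [Module Aᵐᵒᵖ M] [IsCentralScalar A M] [IsScalarTower k Aᵐᵒᵖ M]

local notation "R" => TrivSqZeroExt A M

variable (k A M) in
/-- The algebra inside. -/
def iA : A →ₗ[k] R := (TrivSqZeroExt.inlAlgHom k A M).toLinearMap
variable (k A M) in
/-- The module inside. -/
def iM : M →ₗ[k] R := (TrivSqZeroExt.inrHom A M).restrictScalars k
variable (k A M) in
/-- The algebra coordinate. -/
def pA : R →ₗ[k] A := (TrivSqZeroExt.fstHom k A M).toLinearMap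
variable (k A M) in
/-- The module coordinate. -/
def pM : R →ₗ[k] M := (TrivSqZeroExt.sndHom A M).restrictScalars k

variable {B : Type u} [CommRing B] [Algebra k B]

theorem pA_iA (x : B ⊗[k] A) : (pA k A M).baseChange B ((iA k A M).baseChange B x) = x := by
  induction x using TensorProduct.induction_on with
  | zero => simp
  | tmul b a => rfl
  | add x y hx hy => simp only [map_add, hx, hy]

theorem pM_iM (x : B ⊗[k] M) : (pM k A M).baseChange B ((iM k A M).baseChange B x) = x := by
  induction x using TensorProduct.induction_on with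
  | zero => simp
  | tmul b a => rfl
  | add x y hx hy => simp only [map_add, hx, hy]

theorem pA_iM (x : B ⊗[k] M) : (pA k A M).baseChange B ((iM k A M).baseChange B x) = 0 := by
  induction x using TensorProduct.induction_on with
  | zero => simp
  | tmul b a => exact TensorProduct.tmul_zero A b
  | add x y hx hy => simp only [map_add, hx, hy, add_zero]

theorem pM_iA (x : B ⊗[k] A) : (pM k A M).baseChange B ((iA k A M).baseChange B x) = 0 := by
  induction x using TensorProduct.induction_on with
  | zero => simp
  | tmul b a => exact TensorProduct.tmul_zero M b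
  | add x y hx hy => simp only [map_add, hx, hy, add_zero]

theorem split (z : B ⊗[k] R) : z = (iA k A M).baseChange B ((pA k A M).baseChange B z) +
    (iM k A M).baseChange B ((pM k A M).baseChange B z) := by
  induction z using TensorProduct.induction_on with
  | zero => simp
  | tmul b r =>
    simp only [LinearMap.baseChange_tmul, ← TensorProduct.tmul_add]
    congr 1
    exact (TrivSqZeroExt.inl_fst_add_inr_snd_eq r).symm
  | add x y hx hy =>
    simp only [map_add]
    conv_lhs => rw [hx, hy]
    abel

theorem iA_mul (x y : B ⊗[k] A) :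
    (iA k A M).baseChange B (x * y) = (iA k A M).baseChange B x * (iA k A M).baseChange B y := by
  induction x using TensorProduct.induction_on with
  | zero => simp only [MulZeroClass.zero_mul, map_zero]
  | tmul b a =>
    induction y using TensorProduct.induction_on with
    | zero => simp only [MulZeroClass.mul_zero, map_zero]
    | tmul c a' =>
      simp only [Algebra.TensorProduct.tmul_mul_tmul, LinearMap.baseChange_tmul]
      congr 1
      exact TrivSqZeroExt.inl_mul M a a'
    | add p q hp hq => simp only [mul_add, map_add, hp, hq]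
  | add p q hp hq => simp only [add_mul, map_add, hp, hq]

theorem iA_mul_iM (x : B ⊗[k] A) (y : B ⊗[k] M) :
    (iA k A M).baseChange B x * (iM k A M).baseChange B y =
      (iM k A M).baseChange B (VecGrp.GMod.smulW k A M B x y) := by
  induction x using TensorProduct.induction_on with
  | zero => simp only [map_zero, MulZeroClass.zero_mul, LinearMap.zero_apply]
  | tmul b a =>
    induction y using TensorProduct.induction_on with
    | zero => simp only [map_zero, MulZeroClass.mul_zero]
    | tmul c m =>
      simp only [VecGrp.GMod.smulW, TensorProduct.map₂_apply_tmul, LinearMap.baseChange_tmul,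
        Algebra.TensorProduct.tmul_mul_tmul]
      congr 1
      exact TrivSqZeroExt.inl_mul_inr a m
    | add p q hp hq => simp only [map_add, mul_add, hp, hq]
  | add p q hp hq => simp only [map_add, add_mul, LinearMap.add_apply, hp, hq]

theorem iM_mul_iM (x y : B ⊗[k] M) : (iM k A M).baseChange B x * (iM k A M).baseChange B y = 0 := by
  induction x using TensorProduct.induction_on with
  | zero => simp only [map_zero, MulZeroClass.zero_mul]
  | tmul b m =>
    induction y using TensorProduct.induction_on with
    | zero => simp only [map_zero, MulZeroClass.mul_zero]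
    | tmul c m' =>
      simp only [LinearMap.baseChange_tmul, Algebra.TensorProduct.tmul_mul_tmul]
      rw [show iM k A M m * iM k A M m' = 0 from TrivSqZeroExt.inr_mul_inr A m m', TensorProduct.tmul_zero]
    | add p q hp hq => simp only [map_add, mul_add, hp, hq, add_zero]
  | add p q hp hq => simp only [map_add, add_mul, hp, hq, add_zero]

theorem Wmap_baseChange {X Y : Type u} [AddCommGroup X] [Module k X] [AddCommGroup Y] [Module k Y] {B' : Type u}
    [CommRing B'] [Algebra k B'] (φ : B →ₐ[k] B') (f : X →ₗ[k] Y) (z : B ⊗[k] X) :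
    VecGrp.Wmap φ (f.baseChange B z) = f.baseChange B' (VecGrp.Wmap φ z) := by
  induction z using TensorProduct.induction_on with
  | zero => simp
  | tmul b x => rfl
  | add p q hp hq => simp only [map_add, hp, hq]

variable (ρA : VecGrp.GMod G A) (ρM : VecGrp.GMod G M)

/-- The action of a point. -/
def op (g : VecGrp.pt k B ⟶ G) : B ⊗[k] R →ₗ[B] B ⊗[k] R :=
  ((iA k A M).baseChange B).comp ((ρA.ρ B g).toLinearMap.comp ((pA k A M).baseChange B)) +
    ((iM k A M).baseChange B).comp ((ρM.ρ B g).toLinearMap.comp ((pM k A M).baseChange B))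

theorem op_apply (g : VecGrp.pt k B ⟶ G) (z : B ⊗[k] R) :
    op ρA ρM g z = (iA k A M).baseChange B (ρA.ρ B g ((pA k A M).baseChange B z)) +
      (iM k A M).baseChange B (ρM.ρ B g ((pM k A M).baseChange B z)) := rfl

theorem pA_op (g : VecGrp.pt k B ⟶ G) (z : B ⊗[k] R) :
    (pA k A M).baseChange B (op ρA ρM g z) = ρA.ρ B g ((pA k A M).baseChange B z) := by
  rw [op_apply, map_add, pA_iA, pA_iM, add_zero]

theorem pM_op (g : VecGrp.pt k B ⟶ G) (z : B ⊗[k] R) :
    (pM k A M).baseChange B (op ρA ρM g z) = ρM.ρ B g ((pM k A M).baseChange B z) := by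
  rw [op_apply, map_add, pM_iA, pM_iM, zero_add]

theorem op_mul (g g' : VecGrp.pt k B ⟶ G) (z : B ⊗[k] R) :
    op ρA ρM (g * g') z = op ρA ρM g (op ρA ρM g' z) := by
  rw [op_apply, op_apply (g := g), pA_op, pM_op, map_mul, map_mul]
  rfl

theorem op_one (z : B ⊗[k] R) : op ρA ρM (1 : VecGrp.pt k B ⟶ G) z = z := by
  rw [op_apply, map_one, map_one]
  exact (split z).symm

/-- The action on the extension. -/
def extMod : VecGrp.GMod G R where
  ρ B _ _ :=
    { toFun := fun g => LinearEquiv.ofLinearMap (op ρA ρM g) (op ρA ρM g⁻¹)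
        (LinearMap.ext fun z => by
          rw [LinearMap.comp_apply, ← op_mul, mul_inv_cancel, op_one, LinearMap.id_apply])
        (LinearMap.ext fun z => by
          rw [LinearMap.comp_apply, ← op_mul, inv_mul_cancel, op_one, LinearMap.id_apply])
      map_one' := LinearEquiv.ext fun z => op_one ρA ρM z
      map_mul' := fun g g' => LinearEquiv.ext fun z => op_mul ρA ρM g g' z }
  naturality {B B'} _ _ _ _ φ g z := by
    show VecGrp.Wmap φ (op ρA ρM g z) = op ρA ρM (VecGrp.ptMap φ ≫ g) (VecGrp.Wmap φ z)
    rw [op_apply, map_add, Wmap_baseChange, Wmap_baseChange, ρA.naturality, ρM.naturality, Wmap_baseChange,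
      Wmap_baseChange, op_apply]

theorem extMod_isMult (hρ : ρA.IsMult) (hc : VecGrp.GMod.IsCompat ρA ρM) : (extMod ρA ρM).IsMult := by
  intro B _ _ g
  show (∀ x y, op ρA ρM g (x * y) = op ρA ρM g x * op ρA ρM g y) ∧ op ρA ρM g 1 = 1
  refine ⟨fun x y => ?_, ?_⟩
  · have hpA : (pA k A M).baseChange B (x * y) = (pA k A M).baseChange B x * (pA k A M).baseChange B y := by
      conv_lhs => rw [split x, split y, add_mul, mul_add, mul_add, iM_mul_iM, mul_comm ((iM k A M).baseChange B _),
        iA_mul_iM, iA_mul_iM, ← iA_mul]
      simp only [map_add, pA_iA, pA_iM, map_zero, add_zero]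
    have hpM : (pM k A M).baseChange B (x * y) =
        VecGrp.GMod.smulW k A M B ((pA k A M).baseChange B x) ((pM k A M).baseChange B y) +
          VecGrp.GMod.smulW k A M B ((pA k A M).baseChange B y) ((pM k A M).baseChange B x) := by
      conv_lhs => rw [split x, split y, add_mul, mul_add, mul_add, iM_mul_iM, mul_comm ((iM k A M).baseChange B _),
        iA_mul_iM, iA_mul_iM, ← iA_mul]
      simp only [map_add, pM_iA, pM_iM, map_zero, add_zero, zero_add]
    rw [op_apply, op_apply, op_apply, hpA, hpM, (hρ B g).1, map_add, hc, hc, map_add, iA_mul, add_mul, mul_add,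
      mul_add, iM_mul_iM, mul_comm ((iM k A M).baseChange B _), iA_mul_iM, iA_mul_iM, add_zero]
    abel
  · have h1 : (1 : B ⊗[k] R) = (iA k A M).baseChange B 1 := by
      rw [Algebra.TensorProduct.one_def, Algebra.TensorProduct.one_def, LinearMap.baseChange_tmul]
      rfl
    rw [op_apply, h1, pA_iA, pM_iA, (hρ B g).2, map_zero, map_zero, add_zero]

/-- Invariants of the extension are pairs of invariants. -/
theorem mem_fixedUnder {H : Over (Spec (CommRingCat.of k))} [GrpObj H] (i : H ⟶ G) (x : R) :
    x ∈ (extMod ρA ρM).fixedUnder i ↔ x.fst ∈ ρA.fixedUnder i ∧ x.snd ∈ ρM.fixedUnder i := by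
  refine ⟨fun hx => ⟨fun B _ _ h => ?_, fun B _ _ h => ?_⟩, fun hx B _ _ h => ?_⟩
  · exact (pA_op ρA ρM (h ≫ i) ((1 : B) ⊗ₜ[k] x)).symm.trans (congrArg _ (hx B h))
  · exact (pM_op ρA ρM (h ≫ i) ((1 : B) ⊗ₜ[k] x)).symm.trans (congrArg _ (hx B h))
  · show op ρA ρM (h ≫ i) ((1 : B) ⊗ₜ[k] x) = _
    rw [op_apply]
    conv_rhs => rw [split ((1 : B) ⊗ₜ[k] x)]
    exact congrArg₂ (· + ·) (congrArg _ (hx.1 B h)) (congrArg _ (hx.2 B h))

end Groth.Agent.GModExt21
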